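import Cfsg.Agent.Lib.U62Three.Point.Main

/-!
The centraliser of the subgroup of order 81 when nine divides the index of the core: an abelian group of order
243, the only one of its kind in a Sylow 3-subgroup.
-/

set_option autoImplicit false
set_option linter.style.haveILetI false
set_option linter.unusedSectionVars false

namespace Cfsg.Agent.U62Three.Transfer

open Subgroup
open Co2Three (V4 qf bf e0 e1 e2 e3 IsSim pw pw_one pw_mem IsPoint isSim_mult)
open scoped commutatorElement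

variable {G : Type*} [Group G] [Finite G] {Q : Subgroup G} {el : V4 → G}

/-- A similitude fixing both points has fourth power one. -/
theorem pow_four_check : ∀ a b c d : ZMod 3,
    ((qf ![0, a, b, 0] = qf e1 ∧ qf ![0, c, d, 0] = qf e2) ∧ bf ![0, a, b, 0] ![0, c, d, 0] = 0) →
    ∀ v : V4, let f : V4 → V4 := fun w => ![w 0, a * w 1 + c * w 2, b * w 1 + d * w 2, w 3]
      f (f (f (f v))) = v := by decide +kernel

theorem plane_check : ∀ w : V4, bf w e0 = 0 → bf w e3 = 0 → w = ![0, w 1, w 2, 0] := by decide +kernel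

theorem decomp_check : ∀ v : V4, v = v 0 • e0 + v 1 • e1 + v 2 • e2 + v 3 • e3 ∧
    ∀ a b c d : ZMod 3, v 0 • e0 + v 1 • ![0, a, b, 0] + v 2 • ![0, c, d, 0] + v 3 • e3 =
      ![v 0, a * v 1 + c * v 2, b * v 1 + d * v 2, v 3] := by decide +kernel

/-- A similitude fixing both points and the form. -/
theorem sim_pow_four {M : Matrix (Fin 4) (Fin 4) (ZMod 3)} (hM : IsSim M) (h0 : M.mulVec e0 = e0)
    (h3 : M.mulVec e3 = e3) (v : V4) : M.mulVec (M.mulVec (M.mulVec (M.mulVec v))) = v := by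
  obtain ⟨s, -, hq, hb⟩ := isSim_mult hM
  have hs : s = 1 := by
    have h := hb e0 e3
    rw [h0, h3, bf_e13.2.2, mul_one] at h
    exact h.symm
  subst hs
  have hp : ∀ u, bf u e0 = 0 → bf u e3 = 0 →
      M.mulVec u = ![0, M.mulVec u 1, M.mulVec u 2, 0] := fun u hu0 hu3 =>
    plane_check _ (by rw [← h0, hb, hu0, mul_zero]) (by rw [← h3, hb, hu3, mul_zero])
  have k1 := hp e1 (by decide) (by decide)
  have k2 := hp e2 (by decide) (by decide)
  have hf : ∀ w : V4, M.mulVec w = ![w 0, M.mulVec e1 1 * w 1 + M.mulVec e2 1 * w 2,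
      M.mulVec e1 2 * w 1 + M.mulVec e2 2 * w 2, w 3] := fun w => by
    conv_lhs => rw [(decomp_check w).1]
    rw [Matrix.mulVec_add, Matrix.mulVec_add, Matrix.mulVec_add, Matrix.mulVec_smul, Matrix.mulVec_smul,
      Matrix.mulVec_smul, Matrix.mulVec_smul, h0, h3, k1, k2]
    exact (decomp_check w).2 _ _ _ _
  have hc := pow_four_check (M.mulVec e1 1) (M.mulVec e1 2) (M.mulVec e2 1) (M.mulVec e2 2)
    ⟨⟨by rw [← k1, hq, one_mul], by rw [← k2, hq, one_mul]⟩, by
      rw [← k1, ← k2, hb, one_mul]; decide⟩ v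
  simp only [← hf] at hc
  exact hc

/-- The centraliser of the subgroup of order 81. -/
def cen (el : V4 → G) : Subgroup G := centralizer (Set.range el)

theorem mem_cen {g : G} : g ∈ cen el ↔ ∀ v, Commute g (el v) :=
  ⟨fun h v => (mem_centralizer_iff.1 h (el v) ⟨v, rfl⟩).symm,
    fun h => mem_centralizer_iff.2 (by rintro _ ⟨v, rfl⟩; exact (h v).eq.symm)⟩

variable (D : JData Q el)
include D

theorem el_zero : el 0 = 1 := mul_eq_left.1 ((D.el_add 0 0).symm.trans (by rw [add_zero]))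

theorem el_comm (u v : V4) : Commute (el u) (el v) := by
  show el u * el v = el v * el u
  rw [← D.el_add, ← D.el_add, add_comm]

theorem el_mem_cen (v : V4) : el v ∈ cen el := mem_cen.2 fun u => el_comm D v u

theorem el_conj_point {v : V4} (hv : v ≠ 0) (hq : qf v = 0) : IsPoint (el e0) (el v) := by
  obtain ⟨g, hg⟩ := (D.fused v hv).2 hq
  exact ⟨g, Or.inl hg⟩

/-- The opposite point. -/
theorem base : Base Q (el e0) (el e3) :=
  ⟨D.pt, el_conj_point D (by decide) (by decide), el_comm D e3 e0,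
    fun h => absurd ((D.Q_J e3).1 (D.pt.core.zpowers_le_Q h)) (by decide)⟩

theorem mem_A_iff {x : G} : x ∈ (base D).A ↔ ∃ v : V4, v 3 = 0 ∧ el v = x := by
  classical
  let S : Subgroup G :=
    { carrier := {x | ∃ v : V4, v 3 = 0 ∧ el v = x}
      one_mem' := ⟨0, rfl, el_zero D⟩
      mul_mem' := by
        rintro _ _ ⟨u, hu, rfl⟩ ⟨v, hv, rfl⟩
        exact ⟨u + v, by simp [hu, hv], D.el_add u v⟩
      inv_mem' := by
        rintro _ ⟨u, hu, rfl⟩
        exact ⟨-u, by simp [hu], eq_inv_of_mul_eq_one_right (by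
          rw [← D.el_add, add_neg_cancel, el_zero D])⟩ }
  have hle : S ≤ (base D).A := by
    rintro _ ⟨v, hv, rfl⟩
    exact ⟨(D.Q_J v).2 hv, mem_centralizer_singleton_iff.2 (el_comm D v e3).eq⟩
  have hS : 27 ≤ Nat.card S := by
    let f : (Fin 3 → ZMod 3) → S := fun a => ⟨el ![a 0, a 1, a 2, 0], ![a 0, a 1, a 2, 0], rfl, rfl⟩
    have hf : Function.Injective f := fun a b h => by
      have h' := D.el_inj (congrArg Subtype.val h)
      funext i
      fin_cases i
      · exact congrFun h' 0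
      · exact congrFun h' 1
      · exact congrFun h' 2
    calc 27 = Nat.card (Fin 3 → ZMod 3) := by simp
      _ ≤ Nat.card S := Nat.card_le_card_of_injective f hf
  rw [← eq_of_le_of_card_ge hle ((base D).card_A.le.trans hS)]
  exact Iff.rfl

theorem mem_J_iff {x : G} : x ∈ (base D).J ↔ ∃ v : V4, el v = x := by
  constructor
  · rintro ⟨a, ha, k, rfl⟩
    obtain ⟨v, -, rfl⟩ := (mem_A_iff D).1 ha
    refine ⟨v + k • e3, ?_⟩
    rw [D.el_add, pw, ← el_natCast_smul el D.el_add k.val e3, ZMod.natCast_zmod_val]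
  · rintro ⟨v, rfl⟩
    refine ⟨el (v - v 3 • e3), (mem_A_iff D).2 ⟨_, (smul_facts v 0).2.2, rfl⟩, v 3, ?_⟩
    rw [pw, ← el_natCast_smul el D.el_add (v 3).val e3, ZMod.natCast_zmod_val, ← D.el_add, sub_add_cancel]

theorem J_le_cen : (base D).J ≤ cen el := fun x hx => by
  obtain ⟨v, rfl⟩ := (mem_J_iff D).1 hx
  exact el_mem_cen D v

theorem cen_le : cen el ≤ centralizer {el e0} := fun g hg =>
  mem_centralizer_singleton_iff.2 (mem_cen.1 hg e0).eq

theorem cen_isPGroup : IsPGroup 3 (cen el) := fun g => by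
  obtain ⟨n, hn⟩ := D.cent_three g (mem_cen.1 g.2)
  exact ⟨n, Subtype.ext hn⟩

theorem cen_inf_core {g : G} (hg : g ∈ cen el) (hgQ : g ∈ Q) : g ∈ (base D).J :=
  (mem_J_iff D).2 (by
    obtain ⟨v, hv⟩ := D.cent_core g hgQ (mem_cen.1 hg)
    exact ⟨v, hv.symm⟩)

/-- The core and the centraliser form a 3-group. -/
theorem sup_isPGroup : IsPGroup 3 ↥(Q ⊔ cen el) := by
  have hQ : IsPGroup 3 ↥Q := IsPGroup.of_card (n := 5) (by rw [D.pt.core.card]; norm_num)
  refine hQ.to_sup_of_normal_left' (cen_isPGroup D) fun g hg => ?_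
  have hz := mem_cen.1 hg e0
  exact mem_normalizer_iff.2 fun q => ⟨fun hq => D.pt.normal' hz hq, fun hq => by
    have := D.pt.normal' hz.inv_left hq
    rwa [show g⁻¹ * (g * q * g⁻¹) * g⁻¹⁻¹ = q by group] at this⟩

variable {S : Subgroup G}

/-- An element of order a power of three fixing the two points centralises the subgroup. -/
theorem mem_cen_of_fix {h : G} {n : ℕ} (hn : h ^ 3 ^ n = 1) (h0 : Commute h (el e0)) (h3 : Commute h (el e3)) :
    h ∈ cen el := by
  have hJ : ∀ x ∈ (base D).J, h * x * h⁻¹ ∈ (base D).J :=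
    ((base D).normalise_iff h0).2 ⟨1, one_mem _, 1, one_ne_zero, by
      rw [pw_one, one_mul, h3.eq, mul_inv_cancel_right]⟩
  obtain ⟨M, hM, hMv⟩ := D.norm_sim h fun v => by
    obtain ⟨w, hw⟩ := (mem_J_iff D).1 (hJ _ ((mem_J_iff D).2 ⟨v, rfl⟩))
    exact ⟨w, hw.symm⟩
  have hM0 : M.mulVec e0 = e0 := D.el_inj (by rw [← hMv, h0.eq, mul_inv_cancel_right])
  have hM3 : M.mulVec e3 = e3 := D.el_inj (by rw [← hMv, h3.eq, mul_inv_cancel_right])
  have h4 : h ^ 4 ∈ cen el := mem_cen.2 fun v => by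
    have e : h ^ 4 * el v * (h ^ 4)⁻¹ = el v := by
      conv_rhs => rw [← sim_pow_four hM hM0 hM3 v, ← hMv, ← hMv, ← hMv, ← hMv]
      simp [pow_succ, mul_assoc]
    exact mul_inv_eq_iff_eq_mul.1 e
  have hcop : Nat.Coprime 4 (orderOf h) :=
    Nat.Coprime.coprime_dvd_right (orderOf_dvd_of_pow_eq_one hn) (Nat.Coprime.pow_right n (by norm_num))
  obtain ⟨m, hm⟩ := exists_pow_eq_self_of_coprime hcop
  exact hm ▸ pow_mem h4 m

/-- The elements of a 3-subgroup over the core and the centraliser lie in their product. -/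
theorem mem_prod (hS : S ≤ centralizer {el e0}) (hS3 : IsPGroup 3 S) (hle : Q ⊔ cen el ≤ S)
    (hcom : ∀ g ∈ S, ∀ x ∈ S, ⁅g, x⁆ ∈ Q) {g : G} (hg : g ∈ S) : ∃ q ∈ Q, ∃ c ∈ cen el, g = q * c := by
  have b := base D
  have h3S : el e3 ∈ S := hle (mem_sup_right (el_mem_cen D e3))
  have hgz : Commute g (el e0) := mem_centralizer_singleton_iff.1 (hS hg)
  have hgQ : g * el e3 * g⁻¹ = ⁅g, el e3⁆ * pw (el e3) 1 := by
    rw [pw_one, commutatorElement_def, inv_mul_cancel_right]
  have hJ := ((base D).normalise_iff hgz).2 ⟨_, hcom g hg _ h3S, 1, one_ne_zero, hgQ⟩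
  have hm : g * el e3 * g⁻¹ ∈ (base D).J := hJ _ (base D).z'_mem_J
  obtain ⟨a, ha, k, hk⟩ := hm
  have hpt : IsPoint (el e0) (g * el e3 * g⁻¹) := (base D).point.conj g
  have hk1 : k = 1 := by
    by_contra hne
    have h1 : pw (el e3) (k - 1) ∈ Q := by
      have e : a⁻¹ * ⁅g, el e3⁆ = pw (el e3) k * (el e3)⁻¹ := by
        rw [commutatorElement_def, hk]; group
      rw [sub_eq_add_neg, Co2Three.pw_add (base D).z'3, Co2Three.pw_neg (base D).z'3, pw_one, ← e]
      exact mul_mem (inv_mem ha.1) (hcom g hg _ h3S)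
    exact Co2Three.pw_not_mem (base D).not_mem (base D).z'3 (sub_ne_zero.2 hne) h1
  subst hk1
  rw [pw_one] at hk
  obtain ⟨y, hy, j, hyj⟩ := (base D).exists_move ha
  -- two conjugates of the second point in the same coset
  have hj : j = 0 := by
    refine (base D).unique ha (i := j) (j := 0) (hyj ▸ (base D).point.conj y) ?_
    rw [Co2Three.pw_zero, mul_one, ← hk]
    exact hpt
  rw [hj, Co2Three.pw_zero, mul_one, ← hk] at hyj
  refine ⟨y, hy, y⁻¹ * g, ?_, (mul_inv_cancel_left y g).symm⟩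
  have hin : y⁻¹ * g ∈ S := mul_mem (inv_mem (hle (mem_sup_left hy))) hg
  obtain ⟨n, hn⟩ := hS3 ⟨_, hin⟩
  refine mem_cen_of_fix D (n := n) (congrArg Subtype.val hn)
    (mem_centralizer_singleton_iff.1 (hS hin)) ?_
  refine mul_inv_eq_iff_eq_mul.1 ?_
  calc y⁻¹ * g * el e3 * (y⁻¹ * g)⁻¹ = y⁻¹ * (g * el e3 * g⁻¹) * y := by group
    _ = el e3 := by rw [← hyj]; group

/-- A Sylow 3-subgroup of the centraliser is one of the whole group. -/
theorem mem_of_normalising (hS : S ≤ centralizer {el e0}) (hle : Q ≤ S)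
    (hmax : ∀ T : Subgroup G, T ≤ centralizer {el e0} → IsPGroup 3 T → S ≤ T → T = S)
    {P : Subgroup G} (hP : IsPGroup 3 P) (hSP : S ≤ P) : P = S := by
  haveI : Fact (Nat.Prime 3) := ⟨Nat.prime_three⟩
  haveI := hP.isNilpotent
  by_contra hne
  have hlt : S < P := lt_of_le_of_ne hSP fun h => hne h.symm
  have hlt' : (S.subgroupOf P) < ⊤ := lt_top_iff_ne_top.2 fun h => hne
    (le_antisymm (subgroupOf_eq_top.1 h) hSP)
  obtain ⟨g, hgn, hgS⟩ := SetLike.exists_of_lt (Group.normalizerCondition_of_isNilpotent (G := P) _ hlt')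
  have hconj : ∀ x ∈ S, (g : G) * x * (g : G)⁻¹ ∈ S := fun x hx =>
    (mem_normalizer_iff.1 hgn ⟨x, hSP hx⟩).1 hx
  have hconj' : ∀ x ∈ S, (g : G)⁻¹ * x * (g : G) ∈ S := fun x hx => by
    have := (mem_normalizer_iff.1 (inv_mem hgn) ⟨x, hSP hx⟩).1 hx
    rw [mem_subgroupOf] at this
    simpa using this
  set u := (g : G) * el e0 * (g : G)⁻¹ with hu
  have hucent : ∀ s ∈ S, Commute u s := fun s hs => by
    have h : Commute (el e0) ((g : G)⁻¹ * s * (g : G)) :=
      (mem_centralizer_singleton_iff.1 (hS (hconj' s hs))).symm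
    have h' := h.map (MulAut.conj (g : G))
    rw [MulAut.conj_apply, MulAut.conj_apply,
      show (g : G) * ((g : G)⁻¹ * s * g) * (g : G)⁻¹ = s by group] at h'
    exact h'
  have huQ : u ∈ Q := D.pt.cq u (hucent _ (hle D.pt.core.mem)) fun q hq => hucent q (hle hq)
  have huz : u ∈ zpowers (el e0) := D.pt.wc g huQ
  have hg2 : Commute ((g : G) ^ 2) (el e0) := by
    refine mul_inv_eq_iff_eq_mul.1 ?_
    rw [pow_two, show (g : G) * g * el e0 * ((g : G) * g)⁻¹ = g * u * (g : G)⁻¹ by rw [hu]; group]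
    rcases D.pt.zpow_cases huz with e | e | e
    · exact absurd ((mul_inv_eq_one.1 e).trans rfl) fun h => D.pt.z_ne (by
        have := mul_left_cancel (a := (g : G)) (b := el e0) (c := 1) (by rw [mul_one]; exact h)
        exact this)
    · rw [e, ← hu, e]
    · rw [e, show (g : G) * (el e0)⁻¹ * (g : G)⁻¹ = u⁻¹ by rw [hu]; group, e, inv_inv]
  have hT : IsPGroup 3 ↥(S ⊔ zpowers ((g : G) ^ 2)) := hP.to_le (sup_le hSP (zpowers_le.2 (pow_mem g.2 2)))
  have heq := hmax _ (sup_le hS (zpowers_le.2 (mem_centralizer_singleton_iff.2 hg2.eq))) hT le_sup_left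
  have hg2S : (g : G) ^ 2 ∈ S := heq ▸ mem_sup_right (mem_zpowers _)
  obtain ⟨n, hn⟩ := hP g
  have hcop : Nat.Coprime 2 (orderOf (g : G)) :=
    Nat.Coprime.coprime_dvd_right (orderOf_dvd_of_pow_eq_one (by simpa using congrArg Subtype.val hn))
      (Nat.Coprime.pow_right n (by norm_num))
  obtain ⟨m, hm⟩ := exists_pow_eq_self_of_coprime hcop
  exact hgS (mem_subgroupOf.2 (hm ▸ pow_mem hg2S m))

end Cfsg.Agent.U62Three.Transfer
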