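import Cfsg.Agent.Lib.U62Three.Transfer.Cent
import Cfsg.Agent.Lib.U62Three.AbelianTransfer

/-!
When nine divides the index of the core and no element interchanges its factors, there is a normal subgroup of
index three in which the index of the core is no longer divisible by nine.
-/

set_option autoImplicit false
set_option linter.style.haveILetI false
set_option linter.unusedSectionVars false

namespace Cfsg.Agent.U62Three.Transfer

open Subgroup
open Co2Three (V4 qf e0 e1 e2 e3 IsSim pw pw_one IsPoint isSim_mult)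
open scoped commutatorElement

variable {G : Type*} [Group G] [Finite G] {Q : Subgroup G} {el : V4 → G}

/-- An element normalising the subgroup and acting trivially on its centraliser modulo it. -/
structure Fix (el : V4 → G) (R : Subgroup G) (g : G) : Prop where
  norm : ∀ v, ∃ w, g * el v * g⁻¹ = el w
  triv : ∀ x ∈ cen el, ⁅g, x⁆ ∈ R

variable (D : JData Q el)
include D

theorem norm_J {g : G} (hg : ∀ v, ∃ w, g * el v * g⁻¹ = el w) {x : G} (hx : x ∈ (base D).J) :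
    g * x * g⁻¹ ∈ (base D).J := by
  obtain ⟨v, rfl⟩ := (mem_J_iff D).1 hx
  obtain ⟨w, hw⟩ := hg v
  exact (mem_J_iff D).2 ⟨w, hw.symm⟩

theorem norm_inv {g : G} (hg : ∀ v, ∃ w, g * el v * g⁻¹ = el w) (v : V4) : ∃ w, g⁻¹ * el v * g = el w := by
  choose f hf using hg
  have hinj : Function.Injective f := fun a b h => D.el_inj (by
    have := (hf a).trans ((congrArg el h).trans (hf b).symm)
    simpa using this)
  obtain ⟨w, rfl⟩ := Finite.injective_iff_surjective.1 hinj v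
  exact ⟨w, by rw [← hf]; group⟩

theorem norm_cen {g : G} (hg : ∀ v, ∃ w, g * el v * g⁻¹ = el w) {x : G} (hx : x ∈ cen el) :
    g * x * g⁻¹ ∈ cen el := mem_cen.2 fun v => by
  obtain ⟨w, hw⟩ := norm_inv D hg v
  have h := (mem_cen.1 hx w).map (MulAut.conj g)
  rw [MulAut.conj_apply, MulAut.conj_apply, ← hw,
    show g * (g⁻¹ * el v * g) * g⁻¹ = el v by group] at h
  exact h

theorem norm_mul {g h : G} (hg : ∀ v, ∃ w, g * el v * g⁻¹ = el w) (hh : ∀ v, ∃ w, h * el v * h⁻¹ = el w)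
    (v : V4) : ∃ w, g * h * el v * (g * h)⁻¹ = el w := by
  obtain ⟨u, hu⟩ := hh v
  obtain ⟨w, hw⟩ := hg u
  exact ⟨w, by rw [← hw, ← hu]; group⟩

theorem Fix.mul {g h : G} (hg : Fix el (base D).J g) (hh : Fix el (base D).J h) : Fix el (base D).J (g * h) :=
  ⟨norm_mul D hg.norm hh.norm, fun x hx => by
    have e : ⁅g * h, x⁆ = g * ⁅h, x⁆ * g⁻¹ * ⁅g, x⁆ := by simp only [commutatorElement_def]; group
    rw [e]
    exact mul_mem (norm_J D hg.norm (hh.triv x hx)) (hg.triv x hx)⟩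

theorem Fix.inv {g : G} (hg : Fix el (base D).J g) : Fix el (base D).J g⁻¹ := by
  have hn : ∀ v, ∃ w, g⁻¹ * el v * g⁻¹⁻¹ = el w := fun v => by rw [inv_inv]; exact norm_inv D hg.norm v
  refine ⟨hn, fun x hx => ?_⟩
  have e : ⁅g⁻¹, x⁆ = g⁻¹ * ⁅g, x⁆⁻¹ * g⁻¹⁻¹ := by simp only [commutatorElement_def]; group
  rw [e]
  exact norm_J D hn (inv_mem (hg.triv x hx))

/-- The index data. -/
structure Hyp (Q : Subgroup G) (z : G) : Prop where
  nine : 9 ∣ (Q.subgroupOf (centralizer ({z} : Set G))).index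
  not_big : ¬ 27 ∣ (Q.subgroupOf (centralizer ({z} : Set G))).index
  /-- a 3-subgroup over the core is centralised modulo the core by its normaliser -/
  central : ∀ T : Subgroup G, T ≤ centralizer {z} → Q ≤ T → IsPGroup 3 T →
    ∀ g : G, Commute g z → (∀ x ∈ T, g * x * g⁻¹ ∈ T) → ∀ x ∈ T, ⁅g, x⁆ ∈ Q
  /-- every element of the core is inverted modulo the centre -/
  invert : ∀ q ∈ Q, ∃ t : G, t * q * t⁻¹ * q ∈ zpowers z

variable (H : Hyp Q (el e0))
include H

/-- Elements fixing the central point. -/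
theorem fix_of_commute {g : G} (hg : ∀ v, ∃ w, g * el v * g⁻¹ = el w) (hgz : Commute g (el e0)) :
    Fix el (base D).J g := by
  refine ⟨hg, fun x hx => ?_⟩
  have hQ : ∀ q ∈ Q, g * q * g⁻¹ ∈ Q := fun q hq => D.pt.normal' hgz hq
  have hconj : ∀ y ∈ Q ⊔ cen el, g * y * g⁻¹ ∈ Q ⊔ cen el := by
    intro y hy
    have hle : (Q ⊔ cen el).map (MulAut.conj g).toMonoidHom ≤ Q ⊔ cen el := by
      rw [Subgroup.map_sup]
      refine sup_le ?_ ?_ <;> rintro _ ⟨w, hw, rfl⟩
      · exact mem_sup_left (hQ w hw)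
      · exact mem_sup_right (norm_cen D hg hw)
    exact hle ⟨y, hy, rfl⟩
  have h1 : ⁅g, x⁆ ∈ Q := H.central (Q ⊔ cen el) (sup_le D.pt.le (cen_le D)) le_sup_left (sup_isPGroup D)
    g hgz hconj x (mem_sup_right hx)
  refine cen_inf_core D ?_ h1
  rw [commutatorElement_def]
  exact mul_mem (norm_cen D hg hx) (inv_mem hx)

/-- Elements fixing some singular point. -/
theorem fix_of_point {g : G} (hg : ∀ v, ∃ w, g * el v * g⁻¹ = el w) {v : V4} (hv : v ≠ 0) (hq : qf v = 0)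
    (hgv : Commute g (el v)) : Fix el (base D).J g := by
  obtain ⟨M, hM, hMv⟩ := exists_rot hv hq
  obtain ⟨n, hn⟩ := D.rot M hM
  have hnn : ∀ u, ∃ w, n * el u * n⁻¹ = el w := fun u => ⟨_, hn u⟩
  have hnn' : ∀ u, ∃ w, n⁻¹ * el u * n⁻¹⁻¹ = el w := fun u => by rw [inv_inv]; exact norm_inv D hnn u
  have h0 : Commute (n⁻¹ * g * n) (el e0) := by
    have hh : el v = n * el e0 * n⁻¹ := by rw [hn, hMv]
    have h := hgv.map (MulAut.conj n⁻¹)
    rw [MulAut.conj_apply, MulAut.conj_apply, inv_inv, hh,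
      show n⁻¹ * (n * el e0 * n⁻¹) * n = el e0 by group] at h
    exact h
  have hf := fix_of_commute D H (g := n⁻¹ * g * n)
    (norm_mul D (norm_mul D hnn' hg) hnn) h0
  refine ⟨hg, fun x hx => ?_⟩
  have hx' : n⁻¹ * x * n ∈ cen el := by
    have := norm_cen D hnn' hx
    rwa [inv_inv] at this
  have h := norm_J D hnn (hf.triv _ hx')
  rwa [show n * ⁅n⁻¹ * g * n, n⁻¹ * x * n⁆ * n⁻¹ = ⁅g, x⁆ by simp only [commutatorElement_def]; group] at h

/-- Elements inducing a product of translations. -/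
theorem fix_of_rot {M : Matrix (Fin 4) (Fin 4) (ZMod 3)} (hM : IsRot M) :
    ∀ g : G, (∀ v, g * el v * g⁻¹ = el (M.mulVec v)) → Fix el (base D).J g := by
  suffices h : ∃ g : G, (∀ v, g * el v * g⁻¹ = el (M.mulVec v)) ∧ Fix el (base D).J g by
    intro g hg
    obtain ⟨g₀, hg₀, hf⟩ := h
    have hc : g₀⁻¹ * g ∈ cen el := mem_cen.2 fun v => by
      refine mul_inv_eq_iff_eq_mul.1 ?_
      rw [show g₀⁻¹ * g * el v * (g₀⁻¹ * g)⁻¹ = g₀⁻¹ * (g * el v * g⁻¹) * g₀ by group, hg, ← hg₀]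
      group
    have hn : ∀ v, ∃ w, g₀⁻¹ * g * el v * (g₀⁻¹ * g)⁻¹ = el w := fun v =>
      ⟨v, by rw [(mem_cen.1 hc v).eq, mul_inv_cancel_right]⟩
    have := hf.mul D (fix_of_commute D H hn (mem_cen.1 hc e0))
    rwa [mul_inv_cancel_left] at this
  induction hM using Submonoid.closure_induction with
  | mem A hA =>
    rcases hA with ⟨p, rfl⟩ | ⟨p, rfl⟩
    · obtain ⟨g, hg⟩ := D.rot _ (isRot_tr p.1 p.2)
      refine ⟨g, hg, fix_of_commute D H (fun v => ⟨_, hg v⟩) ?_⟩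
      have h := hg e0
      rw [(tr_facts p.1 p.2 0).2.2.2.1] at h
      exact mul_inv_eq_iff_eq_mul.1 h
    · obtain ⟨g, hg⟩ := D.rot _ (isRot_tr3 p.1 p.2)
      refine ⟨g, hg, fix_of_point D H (fun v => ⟨_, hg v⟩) (v := e3) (by decide) (by decide) ?_⟩
      have h := hg e3
      rw [(tr3_facts p.1 p.2 0).2.2.2.1] at h
      exact mul_inv_eq_iff_eq_mul.1 h
  | one => exact ⟨1, fun v => by simp, fix_of_commute D H (fun v => ⟨v, by simp⟩) (Commute.one_left _)⟩
  | mul A B _ _ hA hB =>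
    obtain ⟨g, hg, hfg⟩ := hA
    obtain ⟨h, hh, hfh⟩ := hB
    exact ⟨g * h, fun v => by rw [← Matrix.mulVec_mulVec, ← hg, ← hh]; group, hfg.mul D hfh⟩

/-- All normalising elements act trivially on the centraliser modulo the subgroup. -/
theorem fix_of_norm {g : G} (hg : ∀ v, ∃ w, g * el v * g⁻¹ = el w) : Fix el (base D).J g := by
  obtain ⟨M, hM, hMv⟩ := D.norm_sim g hg
  have hne : M.mulVec e0 ≠ 0 := fun h => D.pt.z_ne (by
    have h' := hMv e0
    rw [h, el_zero D] at h'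
    exact conj_eq_one_iff.1 h')
  have hq : qf (M.mulVec e0) = 0 := (D.fused _ hne).1 ⟨g, hMv e0⟩
  obtain ⟨M', hM', hMv'⟩ := exists_rot_to hne hq
  obtain ⟨h, hh⟩ := D.rot M' hM'
  have hf := fix_of_rot D H hM' h hh
  have hc : Commute (h * g) (el e0) := mul_inv_eq_iff_eq_mul.1 (by
    rw [show h * g * el e0 * (h * g)⁻¹ = h * (g * el e0 * g⁻¹) * h⁻¹ by group, hMv, hh, hMv'])
  have := (hf.inv D).mul D (fix_of_commute D H (norm_mul D hf.norm hg) hc)
  rwa [inv_mul_cancel_left] at this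

/-- The Sylow subgroup of the centraliser. -/
theorem exists_sylow :
    ∃ S : Subgroup G, S ≤ centralizer {el e0} ∧ IsPGroup 3 S ∧ Q ⊔ cen el ≤ S ∧
      (∀ g ∈ S, ∃ q ∈ Q, ∃ c ∈ cen el, g = q * c) ∧ (∀ g ∈ S, ∀ x ∈ S, ⁅g, x⁆ ∈ Q) ∧
      (∃ P : Sylow 3 G, (P : Subgroup G) = S) ∧ Q.relIndex S = 9 := by
  haveI : Fact (Nat.Prime 3) := ⟨Nat.prime_three⟩
  set C := centralizer ({el e0} : Set G) with hC
  have hT : IsPGroup 3 ↥((Q ⊔ cen el).subgroupOf C) := (sup_isPGroup D).comap_subtype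
  obtain ⟨P₀, hP₀⟩ := hT.exists_le_sylow
  set S := (P₀ : Subgroup C).map C.subtype with hS
  have hSC : S ≤ C := map_subtype_le _
  have hS3 : IsPGroup 3 S := P₀.isPGroup'.map _
  have hle : Q ⊔ cen el ≤ S := fun x hx =>
    ⟨⟨x, sup_le D.pt.le (cen_le D) hx⟩, hP₀ (mem_subgroupOf.2 hx), rfl⟩
  have hcom : ∀ g ∈ S, ∀ x ∈ S, ⁅g, x⁆ ∈ Q := fun g hg => H.central S hSC (le_sup_left.trans hle) hS3 g
    (mem_centralizer_singleton_iff.1 (hSC hg)) (fun x hx => mul_mem (mul_mem hg hx) (inv_mem hg))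
  have hmax : ∀ T : Subgroup G, T ≤ C → IsPGroup 3 T → S ≤ T → T = S := by
    intro T hTC hT3 hST
    have h := P₀.3 (hT3.comap_subtype (K := C)) (fun x hx => mem_subgroupOf.2 (hST ⟨x, hx, rfl⟩))
    rw [hS, ← h, map_comap_eq, range_subtype, inf_eq_right.2 hTC]
  refine ⟨S, hSC, hS3, hle, fun g hg => mem_prod D hSC hS3 hle hcom hg, hcom, ?_, ?_⟩
  · obtain ⟨P, hP⟩ := hS3.exists_le_sylow
    exact ⟨P, mem_of_normalising D hSC (le_sup_left.trans hle) hmax P.isPGroup' hP⟩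
  · -- the 3-part of the index
    have h1 : Q.relIndex S * S.relIndex C = (Q.subgroupOf C).index :=
      relIndex_mul_relIndex _ _ _ (le_sup_left.trans hle) hSC
    have h2 : ¬ 3 ∣ S.relIndex C := by
      have e : S.relIndex C = (P₀ : Subgroup C).index := by
        rw [relIndex, hS, subgroupOf, comap_map_eq_self_of_injective C.subtype_injective]
      rw [e]
      exact P₀.not_dvd_index
    obtain ⟨n, hn⟩ := IsPGroup.iff_card.1 hS3
    obtain ⟨i, -, hi⟩ := (Nat.dvd_prime_pow Nat.prime_three).1 (hn ▸ (relIndex_dvd_card (H := Q) (K := S)))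
    have h27 := H.not_big
    have h9 := H.nine
    rw [← h1, hi] at h27 h9
    rcases (show i ≤ 1 ∨ i = 2 ∨ 3 ≤ i by omega) with hi1 | hi2 | hi3
    · exfalso
      have : 9 ∣ 3 * S.relIndex C := h9.trans (Nat.mul_dvd_mul_right ((pow_dvd_pow 3 hi1).trans (pow_one 3).dvd) _)
      exact h2 (Nat.dvd_of_mul_dvd_mul_left (by norm_num : 0 < 3) (by simpa using this))
    · rw [hi, hi2]; norm_num
    · exact absurd (Dvd.dvd.mul_right (pow_dvd_pow 3 hi3) _) h27

end Cfsg.Agent.U62Three.Transfer
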