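import Cfsg.Agent.Lib.U62Three.Transfer.Index
import Mathlib.GroupTheory.SpecificGroups.Cyclic

/-!
The normal subgroup of index three: it contains the core and the subgroup of order 81, the centralizer of the
central element meets it with the 3-part of the index of the core equal to three, and the points are fused in it.
-/

set_option autoImplicit false
set_option linter.style.haveILetI false
set_option linter.unusedSectionVars false

namespace Cfsg.Agent.U62Three.Transfer

open Subgroup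
open Co2Three (V4 e0 e3 pw pw_one IsPoint)
open scoped commutatorElement

variable {G : Type*} [Group G] [Finite G] {Q : Subgroup G} {el : V4 → G}
  (D : JData Q el) (H : Hyp Q (el e0))
include D H

/-- The centraliser is larger than the subgroup of order 81. -/
theorem exists_outside {S : Subgroup G} (hle : Q ⊔ cen el ≤ S)
    (hprod : ∀ g ∈ S, ∃ q ∈ Q, ∃ c ∈ cen el, g = q * c) (h9 : Q.relIndex S = 9) :
    ∃ x ∈ cen el, x ∉ Q ⊔ (base D).J := by
  by_contra hno
  simp only [not_exists, not_and, not_not] at hno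
  have hS : S ≤ Q ⊔ zpowers (el e3) := by
    intro g hg
    obtain ⟨q, hq, c, hc, rfl⟩ := hprod g hg
    refine mul_mem (mem_sup_left hq)
      ((sup_le le_sup_left ?_ : Q ⊔ (base D).J ≤ Q ⊔ zpowers (el e3)) (hno c hc))
    rintro _ ⟨a, ha, k, rfl⟩
    exact mul_mem (mem_sup_left ha.1) (mem_sup_right (pow_mem (mem_zpowers _) _))
  have h3 : Nat.card (zpowers (el e3)) = 3 := by
    rw [Nat.card_zpowers]
    exact orderOf_eq_prime (base D).z'3 fun h => (base D).not_mem (h ▸ one_mem _)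
  have hn : zpowers (el e3) ≤ normalizer (Q : Set G) := zpowers_le.2 (mem_normalizer_iff.2 fun q =>
    ⟨fun hq => D.pt.normal' (el_comm D e3 e0) hq, fun hq => by
      have := D.pt.normal' (el_comm D e3 e0).inv_left hq
      rwa [show (el e3)⁻¹ * (el e3 * q * (el e3)⁻¹) * (el e3)⁻¹⁻¹ = q by group] at this⟩)
  have h1 := card_le_of_le hS
  have h2 : Nat.card S = Nat.card Q * 9 := by
    have := Pt.card_inf_mul (Q := Q) S
    rwa [inf_eq_right.2 (le_sup_left.trans hle), h9, eq_comm] at this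
  have h4 : Nat.card ↥(Q ⊔ zpowers (el e3)) ≤ 243 * 3 := by
    rw [← D.pt.core.card, ← h3]
    show Nat.card ((Q ⊔ zpowers (el e3) : Subgroup G) : Set G) ≤ _
    rw [coe_mul_of_right_le_normalizer_left Q _ hn]
    exact Set.natCard_mul_le
  rw [h2, D.pt.core.card] at h1
  omega

/-- The centraliser has order at most 243. -/
theorem card_cen_le : Nat.card (cen el) ≤ 243 := by
  haveI : Fact (Nat.Prime 3) := ⟨Nat.prime_three⟩
  set C := centralizer ({el e0} : Set G) with hC
  have hinf : cen el ⊓ Q ≤ (base D).A := fun x hx =>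
    ⟨hx.2, mem_centralizer_singleton_iff.2 (mem_cen.1 hx.1 e3).eq⟩
  haveI : (Q.subgroupOf C).Normal := ⟨fun q hq g => D.pt.normal g g.2 q hq⟩
  have hd := relIndex_dvd_index_of_normal (Q.subgroupOf C) ((cen el).subgroupOf C)
  rw [relIndex_subgroupOf (cen_le D)] at hd
  have hm := Pt.card_inf_mul (Q := Q) (cen el)
  obtain ⟨n, hn⟩ := IsPGroup.iff_card.1 (cen_isPGroup D)
  obtain ⟨i, -, hi⟩ := (Nat.dvd_prime_pow Nat.prime_three).1
    (show Q.relIndex (cen el) ∣ 3 ^ n from hn ▸ Dvd.intro_left _ hm)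
  have hle : Q.relIndex (cen el) ≤ 9 := by
    rw [hi] at hd ⊢
    rcases (show i ≤ 2 ∨ 3 ≤ i by omega) with h1 | h2
    · exact (Nat.pow_le_pow_right (by norm_num) h1).trans (by norm_num)
    · exact absurd ((pow_dvd_pow 3 h2).trans hd) H.not_big
  rw [← hm]
  exact (Nat.mul_le_mul ((card_le_of_le hinf).trans (base D).card_A.le) hle).trans (by norm_num)

/-- The centraliser is abelian of order 243. -/
theorem cen_comm {x : G} (hx : x ∈ cen el) (hxR : x ∉ (base D).J) :
    IsMulCommutative (cen el) ∧ Nat.card (cen el) = 243 := by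
  haveI : Fact (Nat.Prime 3) := ⟨Nat.prime_three⟩
  set R := (base D).J with hR
  set T : Subgroup G := closure (insert x (R : Set G)) with hT
  have hTc : T ≤ cen el := (closure_le _).2 (Set.insert_subset_iff.2 ⟨hx, J_le_cen D⟩)
  obtain ⟨n, hn⟩ := IsPGroup.iff_card.1 ((cen_isPGroup D).to_le hTc)
  have hRT : R < T := lt_of_le_of_ne (fun y hy => subset_closure (Set.mem_insert_of_mem _ hy)) fun h =>
    hxR (h ▸ subset_closure (Set.mem_insert _ _))
  have h81 : 81 < Nat.card T := by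
    rw [← (base D).card_J]
    exact lt_of_le_of_ne (card_le_of_le hRT.le) fun h => hRT.ne (eq_of_le_of_card_ge hRT.le h.ge)
  have h243 : 243 ≤ Nat.card T := by
    rw [hn] at h81 ⊢
    rcases (show n ≤ 4 ∨ 5 ≤ n by omega) with h | h
    · exact absurd ((Nat.pow_le_pow_right (by norm_num) h).trans (by norm_num : 3 ^ 4 ≤ 81)) (by omega)
    · exact le_trans (by norm_num) (Nat.pow_le_pow_right (by norm_num) h)
  have heq : T = cen el := eq_of_le_of_card_ge hTc ((card_cen_le D H).trans h243)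
  refine ⟨?_, le_antisymm (card_cen_le D H) ?_⟩
  · rw [← heq]
    refine isMulCommutative_closure ?_
    intro a ha b hb
    rcases Set.mem_insert_iff.1 ha with rfl | ha' <;> rcases Set.mem_insert_iff.1 hb with rfl | hb'
    · rfl
    · obtain ⟨v, rfl⟩ := (mem_J_iff D).1 hb'
      exact (mem_cen.1 hx v).eq
    · obtain ⟨v, rfl⟩ := (mem_J_iff D).1 ha'
      exact (mem_cen.1 hx v).eq.symm
    · exact (base D).J_comm a ha' b hb'
  · rw [← heq]
    exact h243

/-- An abelian group of order 243 in the Sylow subgroup is the centraliser. -/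
theorem eq_cen {S A : Subgroup G} (hSC : S ≤ centralizer {el e0}) (hle : Q ⊔ cen el ≤ S)
    (hprod : ∀ g ∈ S, ∃ q ∈ Q, ∃ c ∈ cen el, g = q * c) (h9 : Q.relIndex S = 9)
    (hcard : Nat.card (cen el) = 243) (hA : A ≤ S) (hAc : IsMulCommutative A) (hA243 : Nat.card A = 243) :
    A = cen el := by
  haveI : Fact (Nat.Prime 3) := ⟨Nat.prime_three⟩
  have hab : ∀ a ∈ A, ∀ b ∈ A, a * b = b * a := fun a ha b hb =>
    congrArg Subtype.val (hAc.is_comm.comm ⟨a, ha⟩ ⟨b, hb⟩)
  have hQS : Q ≤ S := le_sup_left.trans hle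
  have hn : A ≤ normalizer (Q : Set G) := fun g hg => by
    have hgz : Commute g (el e0) := mem_centralizer_singleton_iff.1 (hSC (hA hg))
    exact mem_normalizer_iff.2 fun q => ⟨fun hq => D.pt.normal' hgz hq, fun hq => by
      have := D.pt.normal' hgz.inv_left hq
      rwa [show g⁻¹ * (g * q * g⁻¹) * g⁻¹⁻¹ = q by group] at this⟩
  have hS : Nat.card S = 243 * 9 := by
    have := Pt.card_inf_mul (Q := Q) S
    rwa [inf_eq_right.2 hQS, h9, D.pt.core.card, eq_comm] at this
  have hAQ : Nat.card ↥(A ⊓ Q) ≤ 27 := D.pt.core.card_abelian_le inf_le_right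
    fun a ha b hb => hab a ha.1 b hb.1
  have hm := Pt.card_inf_mul (Q := Q) A
  have hr : Q.relIndex A ≤ 9 := h9 ▸ relIndex_le_of_le_right hA (by rw [h9]; norm_num)
  have heq : Q ⊔ A = S := by
    refine eq_of_le_of_card_ge (sup_le hQS hA) ?_
    have h1 := Pt.card_inf_mul (Q := Q) (Q ⊔ A)
    rw [inf_eq_right.2 le_sup_left, D.pt.core.card] at h1
    have h2 : Q.relIndex A ≤ Q.relIndex (Q ⊔ A) :=
      relIndex_le_of_le_right le_sup_right fun h => by
        rw [h, mul_zero] at h1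
        exact Nat.card_pos.ne h1
    rw [hS, ← h1]
    have : 243 ≤ Nat.card ↥(A ⊓ Q) * Q.relIndex A := by rw [hm, hA243]
    nlinarith
  have h27 : 27 ≤ Nat.card ↥(A ⊓ Q) := by
    have : Nat.card ↥(A ⊓ Q) * 9 ≥ 243 := by
      refine le_trans ?_ (Nat.mul_le_mul_left _ hr)
      rw [hm, hA243]
    omega
  have he3 : el e3 ∈ Q ⊔ A := heq.symm ▸ hle (mem_sup_right (el_mem_cen D e3))
  obtain ⟨q, hq, a, ha, hqa⟩ : ∃ q ∈ Q, ∃ a ∈ A, q * a = el e3 := by
    have h : el e3 ∈ (↑(Q ⊔ A) : Set G) := he3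
    rw [coe_mul_of_right_le_normalizer_left Q A hn] at h
    exact Set.mem_mul.1 h
  have hAle : A ⊓ Q ≤ (base D).A := fun w hw => by
    refine (base D).mem_A_of_coset (q := q⁻¹) (k := 1) (inv_mem hq) one_ne_zero hw.2 ?_
    rw [pw_one, ← hqa, inv_mul_cancel_left,
      commutatorElement_eq_one_iff_mul_comm.2 (hab a ha w hw.1)]
    exact one_mem _
  have hAeq : A ⊓ Q = (base D).A := eq_of_le_of_card_ge hAle ((base D).card_A.le.trans h27)
  refine eq_of_le_of_card_ge (fun g hg => ?_) (hcard.trans hA243.symm).le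
  obtain ⟨r, hr', c, hc, rfl⟩ := hprod g (hA hg)
  refine mul_mem (J_le_cen D ((base D).A_le_J ?_)) hc
  refine D.pt.core.self_centralising inf_le_left (base D).A_comm (base D).card_A.ge hr' fun w hw => ?_
  have h1 : Commute (r * c) w := hab _ hg w (hAeq.symm ▸ hw : w ∈ A ⊓ Q).1
  have h2 : Commute c w := by
    obtain ⟨v, -, rfl⟩ := (mem_A_iff D).1 hw
    exact mem_cen.1 hc v
  have := h1.mul_left h2.inv_left
  rwa [mul_inv_cancel_right] at this

/-- The subgroup of index three. -/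
theorem exists_normal :
    ∃ N : Subgroup G, N.Normal ∧ N.index = 3 ∧ Q ≤ N ∧ (∀ v, el v ∈ N) ∧
      ¬ centralizer {el e0} ≤ N ∧ ¬ 9 ∣ Q.relIndex (centralizer {el e0} ⊓ N) ∧
      (∀ x, IsPoint (el e0) x → x ∈ N ∧ ∃ g ∈ N, g * el e0 * g⁻¹ = x ∨ g * (el e0)⁻¹ * g⁻¹ = x) ∧
      centralizer (N : Set G) ≤ N := by
  classical
  haveI : Fact (Nat.Prime 3) := ⟨Nat.prime_three⟩
  obtain ⟨S, hSC, hS3, hle, hprod, hcom, ⟨P, hP⟩, h9⟩ := exists_sylow D H
  subst hP
  obtain ⟨x₀, hx₀, hx₀'⟩ := exists_outside D H hle hprod h9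
  obtain ⟨hcc, hcard⟩ := cen_comm D H hx₀ fun h => hx₀' (mem_sup_right h)
  set C := centralizer ({el e0} : Set G) with hC
  set R := (base D).J with hR
  have hQS : Q ≤ (P : Subgroup G) := le_sup_left.trans hle
  have hcS : cen el ≤ (P : Subgroup G) := le_sup_right.trans hle
  have hcin : ∀ {g : G}, g ∈ cen el → g ∈ Q ⊔ R → g ∈ R := by
    intro g hg hgQR
    have hn : R ≤ normalizer (Q : Set G) := fun r hr => by
      have hz : Commute r (el e0) := mem_cen.1 (J_le_cen D hr) e0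
      exact mem_normalizer_iff.2 fun q => ⟨fun hq => D.pt.normal' hz hq, fun hq => by
        have := D.pt.normal' hz.inv_left hq
        rwa [show r⁻¹ * (r * q * r⁻¹) * r⁻¹⁻¹ = q by group] at this⟩
    have h : g ∈ (↑(Q ⊔ R) : Set G) := hgQR
    rw [coe_mul_of_right_le_normalizer_left Q R hn] at h
    obtain ⟨q, hq, r, hr, rfl⟩ := Set.mem_mul.1 h
    refine mul_mem (cen_inf_core D ?_ hq) hr
    exact (Subgroup.mul_mem_cancel_right (cen el) (J_le_cen D hr)).1 hg
  -- the character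
  set M := (Q ⊔ R).subgroupOf (P : Subgroup G) with hM
  haveI hMn : M.Normal := ⟨fun m hm g => by
    rw [hM, mem_subgroupOf] at hm ⊢
    show (g : G) * m * (g : G)⁻¹ ∈ Q ⊔ R
    rw [show (g : G) * m * (g : G)⁻¹ = ⁅(g : G), (m : G)⁆ * m by
      simp only [commutatorElement_def]; group]
    exact mul_mem (mem_sup_left (hcom g g.2 m m.2)) hm⟩
  have hMne : M ≠ ⊤ := fun h => hx₀' (by
    have : (⟨x₀, hcS hx₀⟩ : (P : Subgroup G)) ∈ M := h ▸ mem_top _
    exact this)
  have hidx : M.index = 3 := by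
    have e : (Q ⊔ R).relIndex (P : Subgroup G) = M.index := rfl
    have h1 := relIndex_mul_relIndex Q (Q ⊔ R) (P : Subgroup G) le_sup_left
      (sup_le hQS ((J_le_cen D).trans hcS))
    rw [h9, e] at h1
    have h3 : 3 ≤ Q.relIndex (Q ⊔ R) := by
      rcases Nat.lt_or_ge (Q.relIndex (Q ⊔ R)) 3 with h | h
      swap; · exact h
      exfalso
      obtain ⟨i, -, hi⟩ := (Nat.dvd_prime_pow Nat.prime_three).1
        (show Q.relIndex (Q ⊔ R) ∣ 3 ^ 2 from ⟨M.index, h1.symm⟩)
      have hi0 : i = 0 := by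
        rcases i with _ | i
        · rfl
        · rw [hi] at h
          exact absurd h (not_lt.2 (le_trans (le_of_eq (pow_one 3).symm)
            (Nat.pow_le_pow_right (by norm_num) (Nat.succ_le_succ (Nat.zero_le i)))))
      rw [hi0, pow_zero, relIndex_eq_one] at hi
      exact (base D).not_mem (hi (mem_sup_right (base D).z'_mem_J))
    have h2 : M.index ≠ 1 := fun h => hMne (index_eq_one.1 h)
    have hd : M.index ∣ 3 ^ 2 := ⟨Q.relIndex (Q ⊔ R), by rw [mul_comm]; exact h1.symm⟩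
    obtain ⟨i, hi2, hi⟩ := (Nat.dvd_prime_pow Nat.prime_three).1 hd
    have hlt : M.index * 3 ≤ 9 := by
      rw [← h1, mul_comm (Q.relIndex _)]
      exact Nat.mul_le_mul_left _ h3
    rw [hi] at h2 hlt ⊢
    interval_cases i <;> simp_all
  have hcq : Nat.card ((P : Subgroup G) ⧸ M) = 3 := by rw [← index_eq_card, hidx]
  have hc3 : Nat.card (Multiplicative (ZMod 3)) = 3 :=
    (Nat.card_congr Multiplicative.toAdd).trans (Nat.card_zmod 3)
  let e := mulEquivOfPrimeCardEq hcq hc3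
  let φ : (P : Subgroup G) →* Multiplicative (ZMod 3) := e.toMonoidHom.comp (QuotientGroup.mk' M)
  have hφ : ∀ g : (P : Subgroup G), φ g = 1 ↔ (g : G) ∈ Q ⊔ R := fun g => by
    show e (QuotientGroup.mk g) = 1 ↔ _
    rw [MulEquiv.map_eq_one_iff, QuotientGroup.eq_one_iff]
    exact Iff.rfl
  -- weak closure
  have hwc : Cfsg.IsWeaklyClosed (cen el) (P : Subgroup G) := by
    refine ⟨hcS, fun g hg => eq_cen D H hSC hle hprod h9 hcard hg ?_ ?_⟩
    · haveI := hcc
      exact Subgroup.map_isMulCommutative _ _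
    · rw [← hcard]
      exact (Nat.card_congr (equivMapOfInjective _ _ (MulAut.conj g).injective).toEquiv).symm
  have hnorm : ∀ g ∈ normalizer (cen el : Set G), ∀ v, ∃ w, g * el v * g⁻¹ = el w := by
    intro g hg v
    have hgen : ∀ x ∈ cen el, IsPoint (el e0) x → x ∈ R := fun x hx hp => by
      by_cases hxQ : x ∈ Q
      · exact cen_inf_core D hx hxQ
      obtain ⟨k, hk⟩ := D.pt.line (el e3) x (base D).point hp (el_comm D e3 e0) (mem_cen.1 hx e0)
        (mem_cen.1 hx e3).symm (base D).not_mem hxQ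
      have hw : pw (el e3) k ∈ R := Co2Three.pw_mem (base D).z'_mem_J k
      refine (Subgroup.mul_mem_cancel_right R hw).1 (cen_inf_core D ?_ hk)
      exact mul_mem hx (J_le_cen D hw)
    have hle' : R ≤ R.comap (MulAut.conj g).toMonoidHom := by
      refine le_trans (base D).J_le_closure ((closure_le _).2 ?_)
      rintro y ⟨hy, hyp⟩
      exact hgen _ ((mem_normalizer_iff.1 hg y).1 (J_le_cen D hy)) (hyp.conj g)
    obtain ⟨w, hw⟩ := (mem_J_iff D).1 (hle' ((mem_J_iff D).2 ⟨v, rfl⟩))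
    exact ⟨w, hw.symm⟩
  have hfix : ∀ g ∈ normalizer (cen el : Set G), ∀ x (hx : x ∈ cen el) (hx' : g⁻¹ * x * g ∈ cen el),
      φ ⟨g⁻¹ * x * g, hwc.1 hx'⟩ = φ ⟨x, hwc.1 hx⟩ := by
    intro g hg x hx hx'
    have h := (fix_of_norm D H (hnorm g⁻¹ (inv_mem hg))).triv x hx
    have e : (⟨g⁻¹ * x * g, hwc.1 hx'⟩ : (P : Subgroup G)) =
        ⟨⁅g⁻¹, x⁆, hcS (J_le_cen D h)⟩ * ⟨x, hwc.1 hx⟩ := Subtype.ext (by
      simp only [commutatorElement_def, Subgroup.coe_mul]; group)
    rw [e, map_mul, (hφ _).2 (mem_sup_right h), one_mul]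
  obtain ⟨N, hN, hNi, hNsup, hNmem⟩ := exists_normal_index P (cen el) le_rfl hwc hcc φ hfix
    ⟨x₀, hx₀, fun h => hx₀' ((hφ _).1 h)⟩
  haveI := hN
  have hel : ∀ v, el v ∈ N := fun v => (hNmem _ (el_mem_cen D v)).2
    ((hφ _).2 (mem_sup_right ((mem_J_iff D).2 ⟨v, rfl⟩)))
  have hQN : Q ≤ N := by
    intro q hq
    obtain ⟨t, ht⟩ := H.invert q hq
    have hzN : t * q * t⁻¹ * q ∈ N := zpowers_le.2 (hel e0) ht
    haveI : IsCyclic (G ⧸ N) := isCyclic_of_prime_card (p := 3) (by rw [← index_eq_card, hNi])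
    letI := IsCyclic.commGroup (α := G ⧸ N)
    set a : G ⧸ N := QuotientGroup.mk q
    have ha : a ^ 2 = 1 := by
      have h1 : QuotientGroup.mk' N (t * q * t⁻¹ * q) = 1 := (QuotientGroup.eq_one_iff _).2 hzN
      rw [map_mul, map_mul, map_mul, map_inv, mul_comm (QuotientGroup.mk' N t), mul_inv_cancel_right] at h1
      rw [pow_two]
      exact h1
    have ha3 : a ^ 3 = 1 := by
      show ((QuotientGroup.mk q : G ⧸ N)) ^ 3 = 1
      rw [← QuotientGroup.mk_pow, D.pt.exp q hq, QuotientGroup.mk_one]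
    refine (QuotientGroup.eq_one_iff q).1 (?_ : a = 1)
    rwa [pow_succ, ha, one_mul] at ha3
  have hnle : ¬ C ≤ N := fun h => hx₀' ((hφ _).1 ((hNmem _ hx₀).1 (h (cen_le D hx₀))))
  refine ⟨N, hN, hNi, hQN, hel, hnle, fun h => ?_, fun x hx => ?_, fun c hc => ?_⟩
  · have hCN : (C ⊓ N).relIndex C = 3 := by
      rw [inf_comm, inf_relIndex_right]
      have hd : N.relIndex C ∣ 3 := hNi ▸ relIndex_dvd_index_of_normal (H := N) (K := C)
      rcases (Nat.dvd_prime Nat.prime_three).1 hd with h1 | h1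
      · exact absurd (relIndex_eq_one.1 h1) hnle
      · exact h1
    have h1 := relIndex_mul_relIndex Q (C ⊓ N) C (le_inf D.pt.le hQN) inf_le_left
    rw [hCN] at h1
    exact H.not_big (show 27 ∣ Q.relIndex C from h1 ▸ Nat.mul_dvd_mul_right h 3)
  · obtain ⟨g, hg⟩ := hx
    have hg' : g ∈ (↑(N ⊔ cen el) : Set G) := by rw [hNsup]; exact mem_top g
    rw [normal_mul N (cen el)] at hg'
    obtain ⟨n, hn, c, hc, rfl⟩ := Set.mem_mul.1 hg'
    have hcz := mem_cen.1 hc e0
    rcases hg with hg | hg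
    · rw [show n * c * el e0 * (n * c)⁻¹ = n * (c * el e0 * c⁻¹) * n⁻¹ by group, hcz.eq,
        mul_inv_cancel_right] at hg
      exact ⟨hg ▸ hN.conj_mem _ (hel e0) n, n, hn, Or.inl hg⟩
    · rw [show n * c * (el e0)⁻¹ * (n * c)⁻¹ = n * (c * (el e0)⁻¹ * c⁻¹) * n⁻¹ by group,
        hcz.inv_right.eq, mul_inv_cancel_right] at hg
      exact ⟨hg ▸ hN.conj_mem _ (inv_mem (hel e0)) n, n, hn, Or.inr hg⟩
  · refine hQN (D.pt.cq c (mem_centralizer_iff.1 hc _ (hel e0)).symm fun q hq => ?_)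
    exact (mem_centralizer_iff.1 hc q (hQN hq)).symm

end Cfsg.Agent.U62Three.Transfer
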